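import Cfsg.Agent.SM.Ar.Main
import Cfsg.Agent.SM.Ex.NoFac
import Cfsg.Agent.SM.Ex.E62
import Cfsg.Agent.SM.Ex.T62
import Cfsg.Agent.SM.Ex78.Nil

/-!
# SM (S3570): the exceptional families without a row (helper59)
-/

set_option autoImplicit false

namespace Cfsg.Agent.SM.Ar

open Cfsg Cfsg.Agent.SM.Ex Cfsg.Agent.SM.Ex78

theorem noFac_of {S : Type} [Group S] (h : ∀ X Y : Subgroup S, Dv X Y → X = ⊤ ∨ Y = ⊤) : NoFac S :=
  fun X Y hX hY p => (h X Y p.card_dvd).elim hX hY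

/-- **`E₆`, `E₇`, `E₈`, `²E₆`, `³D₄`, `Sz`, `²G₂`, `²F₄` give no overgroup.** -/
theorem nil_fE0 (cf : Cf) : Nil fE0 := by
  refine Nil.or (P₁ := fun S _ => Lie.IsoChevE6 S ∨ Lie.IsoE7 S ∨ Lie.IsoE8 S ∨ Lie.Iso2E6 S) (nil_of_noFac fun S _ hS => ?_)
    nil_tw fun S _ h => by
      unfold fE0 at h
      tauto
  rcases hS with ⟨F, _, _, ⟨e⟩⟩ | ⟨F, _, _, ⟨e⟩⟩ | ⟨F, _, _, ⟨e⟩⟩ | ⟨F, _, _, q, hq, hF, ⟨e⟩⟩
  · rcases (show 2 ≤ Fintype.card F from Fintype.one_lt_card).eq_or_lt with h | h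
    · exact (E62.noFac_e62 cf h.symm).congr e
    · exact (noFac_of fun _ _ => noFac_e6_three cf h).congr e
  · exact (noFac_of fun _ _ => noFac_e7 cf).congr e
  · exact (noFac_of fun _ _ => noFac_e8 cf).congr e
  · rcases hq.two_le.eq_or_lt with rfl | h
    · exact (T62.noFac_te62 cf hF).congr e
    · obtain ⟨p, f, hp, hf, rfl⟩ := (isPrimePow_nat_iff _).1 hq
      exact (noFac_of fun _ _ => noFac_te6_three cf hp hf hF h).congr e

end Cfsg.Agent.SM.Ar
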