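import Mathlib

/-!
# SM (S3570): numeric facts for the sum of the tables (helper59)
-/

set_option autoImplicit false

namespace Cfsg.Agent.SM.Ar

open Finset

/-- the order of `Sp₂₂(2)` -/
def t0 : ℕ := 9965900784703658358028471582104169283870185004809555811165570548629504000000

/-- the index of `Co₃` in `Sp₂₂(2)` -/
def n0 : ℕ := 20101998922460122767975084597267003942818988223382162698665984000

theorem t0_eq : t0 = 2 ^ 121 * 3748755223447856814435325652920396921875 := by unfold t0; norm_num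

theorem val2 {a b u v : ℕ} (hu : Odd u) (hv : Odd v) (h : 2 ^ a * u = 2 ^ b * v) : a = b := by
  have k : ∀ {a b u v : ℕ}, Odd v → 2 ^ a * u = 2 ^ b * v → a ≤ b := fun {a b u v} hv h => by
    have h1 : 2 ^ a ∣ 2 ^ b * v := h ▸ Dvd.intro _ rfl
    have h2 : Nat.Coprime (2 ^ a) v := Nat.Coprime.pow_left _ (Nat.coprime_two_left.2 hv)
    exact (Nat.pow_dvd_pow_iff_le_right (by norm_num)).1 (h2.dvd_of_dvd_mul_right h1)
  exact le_antisymm (k hv h) (k hu h.symm)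

theorem val_t0 {a u : ℕ} (hu : Odd u) (h : t0 = 2 ^ a * u) : a = 121 :=
  val2 hu (by decide) (h.symm.trans t0_eq)

theorem odd_sub {e k : ℕ} (he : 1 ≤ e) (hk : 1 ≤ k) : Odd ((2 ^ e) ^ k - 1) := by
  have h1 : Even ((2 ^ e) ^ k) := by
    rw [← pow_mul]
    exact (Nat.even_pow' (Nat.mul_pos he hk).ne').2 even_two
  exact Nat.Even.sub_odd (Nat.one_le_pow _ _ (by positivity)) h1 odd_one

theorem odd_add {e k : ℕ} (he : 1 ≤ e) (hk : 1 ≤ k) : Odd ((2 ^ e) ^ k + 1) := by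
  have h1 : Even ((2 ^ e) ^ k) := by
    rw [← pow_mul]
    exact (Nat.even_pow' (Nat.mul_pos he hk).ne').2 even_two
  exact h1.add_one

theorem odd_prod {e : ℕ} (he : 1 ≤ e) (m : ℕ) : Odd (∏ i ∈ range m, ((2 ^ e) ^ (2 * (i + 1)) - 1)) :=
  Finset.prod_induction _ Odd (fun _ _ => Odd.mul) odd_one fun _ _ => odd_sub he (by omega)

theorem not_fact (m : ℕ) : 2 * t0 ≠ m.factorial := fun h => by
  rcases le_or_gt m 56 with hm | hm
  · have h1 := Nat.factorial_le hm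
    rw [← h] at h1
    revert h1
    unfold t0
    decide +kernel
  · have h1 : (57 : ℕ).factorial ≤ m.factorial := Nat.factorial_le hm
    rw [← h] at h1
    revert h1
    unfold t0
    decide +kernel

theorem not_desc {j c₀ : ℕ} (h1 : c₀.descFactorial j < j.factorial * n0) (h2 : j.factorial * n0 < (c₀ + 1).descFactorial j)
    (c : ℕ) : n0 ≠ c.choose j := fun h => by
  have e : c.descFactorial j = j.factorial * n0 := by rw [Nat.descFactorial_eq_factorial_mul_choose, h]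
  rcases le_or_gt c c₀ with hc | hc
  · have := Nat.descFactorial_le j hc
    omega
  · have := Nat.descFactorial_le j (Nat.succ_le_of_lt hc)
    simp only [Nat.succ_eq_add_one] at this
    omega

theorem not_choose {c j : ℕ} (h2 : 2 ≤ j) (h5 : j ≤ 5) : n0 ≠ c.choose j := by
  interval_cases j
  · exact not_desc (c₀ := 200509346028857830734526945192449) (by unfold n0; decide +kernel) (by unfold n0; decide +kernel) c
  · exact not_desc (c₀ := 4940794966977904205977) (by unfold n0; decide +kernel) (by unfold n0; decide +kernel) c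
  · exact not_desc (c₀ := 26354975800193431) (by unfold n0; decide +kernel) (by unfold n0; decide +kernel) c
  · exact not_desc (c₀ := 18900970239149) (by unfold n0; decide +kernel) (by unfold n0; decide +kernel) c

/-- `q⁹ (q² - 1) (q⁴ - 1) (q⁶ - 1)` -/
def o7 (q : ℕ) : ℕ := q ^ 9 * ((q ^ 2 - 1) * (q ^ 4 - 1) * (q ^ 6 - 1))

theorem o7_mono {a b : ℕ} (h : a ≤ b) : o7 a ≤ o7 b := by
  unfold o7
  gcongr

theorem gcd_two (q : ℕ) : Nat.gcd 2 q = 1 ∨ Nat.gcd 2 q = 2 := by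
  have := Nat.le_of_dvd two_pos (Nat.gcd_dvd_left 2 q)
  have := Nat.gcd_pos_of_pos_left q two_pos
  omega

theorem not_o7 (q : ℕ) : t0 * Nat.gcd 2 (q - 1) ≠ o7 q := fun h => by
  have k : ∀ x c : ℕ, o7 c < x → x < o7 (c + 1) → x ≠ o7 q := fun x c h1 h2 e => by
    rcases le_or_gt q c with hc | hc
    · have := o7_mono hc
      omega
    · have := o7_mono (Nat.succ_le_of_lt hc)
      simp only [Nat.succ_eq_add_one] at this
      omega
  rcases gcd_two (q - 1) with g | g <;> rw [g] at h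
  · exact k _ 4158 (by unfold t0 o7; norm_num) (by unfold t0 o7; norm_num) h
  · exact k _ 4298 (by unfold t0 o7; norm_num) (by unfold t0 o7; norm_num) h

theorem o7_low {q t : ℕ} (hq : 2 ≤ q) (h : t * Nat.gcd 2 (q - 1) = o7 q) : t = 1451520 ∨ 4585351680 ≤ t := by
  rcases hq.eq_or_lt with rfl | h3
  · left
    have : o7 2 = 1451520 := by unfold o7; norm_num
    simpa [this] using h
  · right
    have h1 := o7_mono (Nat.succ_le_of_lt h3)
    have : o7 (Nat.succ 2) = 9170703360 := by unfold o7; norm_num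
    rcases gcd_two (q - 1) with g | g <;> rw [g] at h <;> omega

theorem g2_low {p a : ℕ} (hp : p.Prime) (h2 : p ≠ 2) (ha : 0 < a) :
    (p ^ a) ^ 6 * (((p ^ a) ^ 6 - 1) * ((p ^ a) ^ 2 - 1)) = 4245696 ∨
      5859000000 ≤ (p ^ a) ^ 6 * (((p ^ a) ^ 6 - 1) * ((p ^ a) ^ 2 - 1)) := by
  have ho : Odd (p ^ a) := (hp.odd_of_ne_two h2).pow
  have h1 : 2 ≤ p ^ a := le_trans hp.two_le (Nat.le_self_pow ha.ne' p)
  generalize p ^ a = q at *
  obtain ⟨r, hr⟩ := ho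
  rcases (by omega : q = 3 ∨ 5 ≤ q) with rfl | h5
  · left
    norm_num
  · right
    calc 5859000000 = 5 ^ 6 * ((5 ^ 6 - 1) * (5 ^ 2 - 1)) := by norm_num
      _ ≤ _ := by gcongr

theorem g2_sq {q n : ℕ} (hq : 2 ≤ q)
    (h : n * (q - 1) = q ^ 6 - 1 ∨ 2 * n = q ^ 3 * (q ^ 3 + 1) ∨ 2 * n = q ^ 3 * (q ^ 3 - 1)) :
    n * n ≤ q ^ 6 * ((q ^ 6 - 1) * (q ^ 2 - 1)) := by
  have h3 : 1 ≤ q ^ 3 := Nat.one_le_pow _ _ (by omega)
  have e6 : q ^ 6 = q ^ 3 * q ^ 3 := by ring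
  have hn : n ≤ q ^ 6 := by
    rcases h with h | h | h
    · have : n * 1 ≤ n * (q - 1) := Nat.mul_le_mul_left _ (by omega)
      omega
    · have : q ^ 3 * (q ^ 3 + 1) ≤ q ^ 3 * (2 * q ^ 3) := Nat.mul_le_mul_left _ (by omega)
      nlinarith
    · have : q ^ 3 * (q ^ 3 - 1) ≤ q ^ 3 * q ^ 3 := Nat.mul_le_mul_left _ (by omega)
      omega
  have h2 : 2 ^ 2 ≤ q ^ 2 := Nat.pow_le_pow_left hq 2
  have h6 : 2 ^ 6 ≤ q ^ 6 := Nat.pow_le_pow_left hq 6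
  have h4 : (q ^ 6 - 1) * 2 ≤ (q ^ 6 - 1) * (q ^ 2 - 1) := Nat.mul_le_mul_left _ (by omega)
  exact Nat.mul_le_mul hn (by omega)

theorem f4_low {r : ℕ} (hr : 2 ≤ r) :
    211341312 ≤ r ^ 12 * ((r ^ 2 - 1) * (r ^ 6 - 1) * (r ^ 8 + r ^ 4 + 1)) ∧ 69888 ≤ r ^ 8 * (r ^ 8 + r ^ 4 + 1) := by
  constructor
  · calc 211341312 = 2 ^ 12 * ((2 ^ 2 - 1) * (2 ^ 6 - 1) * (2 ^ 8 + 2 ^ 4 + 1)) := by norm_num
      _ ≤ _ := by gcongr
  · calc 69888 = 2 ^ 8 * (2 ^ 8 + 2 ^ 4 + 1) := by norm_num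
      _ ≤ _ := by gcongr

theorem f4_sq {r : ℕ} (hr : 2 ≤ r) :
    r ^ 12 * ((r ^ 2 - 1) * (r ^ 6 - 1) * (r ^ 8 + r ^ 4 + 1)) <
      r ^ 8 * (r ^ 8 + r ^ 4 + 1) * (r ^ 8 * (r ^ 8 + r ^ 4 + 1)) := by
  have h1 : (r ^ 2 - 1) * (r ^ 6 - 1) ≤ r ^ 2 * r ^ 6 := Nat.mul_le_mul (Nat.sub_le _ _) (Nat.sub_le _ _)
  have h4 : 1 ≤ r ^ 4 := Nat.one_le_pow _ _ (by omega)
  have h2 : r ^ 2 * r ^ 6 < r ^ 4 * (r ^ 8 + r ^ 4 + 1) := by
    have e : r ^ 2 * r ^ 6 = r ^ 4 * r ^ 4 := by ring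
    rw [e]
    have h8 : 1 ≤ r ^ 8 := Nat.one_le_pow _ _ (by omega)
    exact Nat.mul_lt_mul_of_pos_left (by omega) h4
  have h0 : 0 < r ^ 12 * (r ^ 8 + r ^ 4 + 1) := by positivity
  calc _ = r ^ 12 * (r ^ 8 + r ^ 4 + 1) * ((r ^ 2 - 1) * (r ^ 6 - 1)) := by ring
    _ < r ^ 12 * (r ^ 8 + r ^ 4 + 1) * (r ^ 4 * (r ^ 8 + r ^ 4 + 1)) := Nat.mul_lt_mul_of_pos_left (by omega) h0
    _ = _ := by ring

theorem f4_odd {a : ℕ} (ha : 1 ≤ a) : Odd (((2 ^ a) ^ 2 - 1) * ((2 ^ a) ^ 6 - 1) * ((2 ^ a) ^ 8 + (2 ^ a) ^ 4 + 1)) := by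
  refine ((odd_sub ha (by norm_num)).mul (odd_sub ha (by norm_num))).mul ?_
  have h1 : Even ((2 ^ a) ^ 8) := by
    rw [← pow_mul]
    exact (Nat.even_pow' (by omega)).2 even_two
  rw [add_assoc]
  exact h1.add_odd (odd_add ha (by norm_num))

/-- the order of `Sp_{2m}(q)`, `m ≥ 4`, is large -/
theorem c_low {q m d t : ℕ} (hq : 2 ≤ q) (hm : 4 ≤ m) (hd : d ≤ 2)
    (h : d * t = q ^ m ^ 2 * ∏ i ∈ range m, (q ^ (2 * (i + 1)) - 1)) : 5000000000 ≤ t := by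
  have h1 : ∏ i ∈ range 4, (2 ^ (2 * (i + 1)) - 1) ≤ ∏ i ∈ range m, (q ^ (2 * (i + 1)) - 1) := by
    calc ∏ i ∈ range 4, (2 ^ (2 * (i + 1)) - 1) ≤ ∏ i ∈ range 4, (q ^ (2 * (i + 1)) - 1) := by gcongr
      _ ≤ _ := Finset.prod_le_prod_of_subset_of_one_le' (Finset.range_subset_range.2 hm) fun i _ _ => by
        have := Nat.one_lt_pow (n := 2 * (i + 1)) (by omega) (by omega : 1 < q)
        omega
  have h2 : 2 ^ 4 ^ 2 ≤ q ^ m ^ 2 := by gcongr; omega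
  have h3 := Nat.mul_le_mul h2 h1
  have h4 : 2 ^ 4 ^ 2 * ∏ i ∈ range 4, (2 ^ (2 * (i + 1)) - 1) = 47377612800 := by decide +kernel
  have h5 : d * t ≤ 2 * t := Nat.mul_le_mul_right _ hd
  omega

/-- the order of `L_m(3)`, `m ≥ 5`, is large -/
theorem l_low {m d t : ℕ} (hm : 5 ≤ m) (hd : d ≤ 2)
    (h : d * t = 3 ^ (m * (m - 1) / 2) * ∏ i ∈ range (m - 1), (3 ^ (i + 2) - 1)) : 5000000000 ≤ t := by
  have h1 : ∏ i ∈ range 4, (3 ^ (i + 2) - 1) ≤ ∏ i ∈ range (m - 1), (3 ^ (i + 2) - 1) :=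
    Finset.prod_le_prod_of_subset_of_one_le' (Finset.range_subset_range.2 (by omega)) fun i _ _ => by
      have := Nat.one_lt_pow (n := i + 2) (by omega) (by omega : 1 < 3)
      omega
  have h0 : 5 * 4 ≤ m * (m - 1) := Nat.mul_le_mul hm (by omega)
  have h2 : 3 ^ 10 ≤ 3 ^ (m * (m - 1) / 2) := Nat.pow_le_pow_right (by norm_num) (by omega)
  have h3 := Nat.mul_le_mul h2 h1
  have h4 : 3 ^ 10 * ∏ i ∈ range 4, (3 ^ (i + 2) - 1) = 237783237120 := by decide +kernel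
  have h5 : d * t ≤ 2 * t := Nat.mul_le_mul_right _ hd
  omega

theorem c11 : 2 ^ 11 ^ 2 * ∏ i ∈ range 11, (2 ^ (2 * (i + 1)) - 1) = t0 := by unfold t0; decide +kernel

end Cfsg.Agent.SM.Ar
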