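import Cfsg.Agent.H250.EqD.DdN
import Cfsg.Agent.SM.Asm
import Cfsg.Agent.SM.Ar.Num
import Cfsg.Agent.SM.Alt.Defs
import Cfsg.Agent.SM.L.Defs
import Cfsg.Agent.SM.Sy.Defs
import Cfsg.Agent.SM.Oo.Tab
import Cfsg.Agent.SM.O8.Defs
import Cfsg.Agent.SM.Op.Defs
import Cfsg.Agent.SM.Om.Tab
import Cfsg.Agent.SM.Ex.FDefs
import Cfsg.Agent.SM.Ex78.Tab
import Cfsg.Agent.SM.Mat.Tab

/-!
# SM (S3570): the sum of the tables is at most nine (helper59)

* `sum_le` : the twelve tables as landed.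
* `boxAS_of_tabs` : `BoxAS` from the bounds of the subfamilies.
-/

set_option autoImplicit false

namespace Cfsg.Agent.SM.Ar

open Cfsg Cfsg.Agent.H902

/-- a table which contains the rows of the unitary family (any bound `≤ 4` is good enough) -/
def RU : Tab := fun t n k =>
  k = 4 ∧ ((t = 168 ∧ n = 28) ∨ (t = 20160 ∧ n = 280) ∨ (t = 13685760 ∧ (n = 1408 ∨ n = 20736)))

/-- the row `M₂₂ < HS` (this is `SM.SpN.RH`) -/
def RHS : Tab := fun t n k => t = 443520 ∧ n = 176 ∧ k = 2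

theorem pA {t n a : ℕ} (h : Alt.RA.At t n a) :
    a ≤ 2 ∨ (a = 6 ∧ t = 360) ∨ (a = 4 ∧ (t = 60 ∨ t = 2520 ∨ (t = 20160 ∧ n = 105))) := by
  rcases h with h | ⟨h, -⟩ | h | h <;> omega

theorem pA0 {a : ℕ} (h : Alt.RA.At t0 n0 a) : a = 0 := by
  rcases h with h | ⟨-, ⟨m, -, h⟩ | ⟨c, j, h2, h5, -, h, -⟩⟩ | ⟨-, h⟩ | ⟨-, h⟩
  · exact h
  · exact absurd h (not_fact m)
  · exact absurd h (not_choose h2 h5)
  · exact absurd h (by unfold t0; norm_num)
  · unfold t0 at h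
    omega

theorem pL {t n l : ℕ} (h : L.tabL.At t n l) : l ≤ 1 := by
  rcases h with h | ⟨h, -⟩ <;> omega

theorem pS {t n s : ℕ} (h : Sy.RS.At t n s) :
    s ≤ 2 ∨ (s = 5 ∧ (t = 6048 ∨ t = 1814400 ∨ t = 2448 ∨ (t = 20160 ∧ n = 120))) := by
  rcases h with h | ⟨h, -⟩ | h <;> omega

theorem pS0 {n s : ℕ} (h : Sy.RS.At t0 n s) : s = 0 := by
  have ev : ∀ m e : ℕ, e * (m * (m - 1)) ≠ 121 := fun m e h => by
    have : Even (e * (m * (m - 1))) := (Nat.even_mul_pred_self m).mul_left e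
    rw [h] at this
    exact absurd this (by decide)
  rcases h with h | ⟨-, ⟨m, e, hm, he, ⟨h, -⟩ | h⟩ | ⟨b, r, hb, hr, -, h, -⟩ | ⟨e, he, h, -⟩ | h⟩ | ⟨-, h⟩
  · exact h
  · unfold Sy.oP at h
    rw [← pow_mul, mul_assoc] at h
    exact absurd (val_t0 ((odd_sub he (by omega)).mul (odd_prod he _)) h) (ev m e)
  · unfold Sy.oM at h
    rw [← pow_mul, mul_assoc] at h
    exact absurd (val_t0 ((odd_add he (by omega)).mul (odd_prod he _)) h) (ev m e)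
  · unfold Sy.oSp at h
    rw [← pow_mul] at h
    have h1 := val_t0 (odd_prod hr.one_le _) h
    have h2 : r ∣ 11 ^ 2 := ⟨b * b, by omega⟩
    obtain rfl := (Nat.prime_dvd_prime_iff_eq hr (by norm_num)).1 (hr.dvd_of_dvd_pow h2)
    have h3 : b * b = 11 := by omega
    have h4 : b ≤ 3 := by nlinarith
    interval_cases b <;> omega
  · unfold Sy.oG at h
    rw [← pow_mul 2 e 6, mul_assoc] at h
    have h1 : 1 ≤ e := by omega
    have h2 : Odd ((2 ^ (e * 6) - 1) * ((2 ^ e) ^ 2 - 1)) := by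
      rw [pow_mul]
      exact (odd_sub h1 (by norm_num)).mul (odd_sub h1 (by norm_num))
    have := val_t0 h2 h
    omega
  · unfold t0 at h
    omega
  · unfold t0 at h
    omega

theorem pO {t n o : ℕ} (h : Oo.RO.At t n o) :
    o = 0 ∨ (o = 1 ∧ n * n ≤ t ∧ (t = 4245696 ∨ 5859000000 ≤ t)) ∨ (o = 4 ∧ t = 4245696) := by
  rcases h with h | ⟨h, p, a, q, hp, h2, ha, rfl, rfl, hn⟩ | ⟨h, h', -⟩
  · exact Or.inl h
  · exact Or.inr (Or.inl ⟨h, g2_sq (le_trans hp.two_le (Nat.le_self_pow ha.ne' p)) hn, g2_low hp h2 ha⟩)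
  · exact Or.inr (Or.inr ⟨h, h'⟩)

theorem p8 {t n k : ℕ} (h : O8.R8.At t n k) :
    k = 0 ∨ (k = 2 ∧ (t = 1451520 ∨ 4585351680 ≤ t)) ∨
      (k = 3 ∧ (t = 1451520 ∨ t = 181440 ∨ t = 174182400 ∨ t = 6065280)) ∨ (k = 4 ∧ t = 4585351680 ∧ n = 28431) := by
  rcases h with h | ⟨h, p, a, hp, ha, h7⟩ | h
  · exact Or.inl h
  · exact Or.inr (Or.inl ⟨h, o7_low (le_trans hp.two_le (Nat.le_self_pow (by omega) p)) h7⟩)
  · omega

theorem p80 {n k : ℕ} (h : O8.R8.At t0 n k) : k = 0 := by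
  rcases h with h | ⟨-, p, a, -, -, h7⟩ | h
  · exact h
  · exact absurd h7 (not_o7 _)
  · unfold t0 at h
    omega

theorem p5 {t n k : ℕ} (h : Op.tabP5.At t n k) :
    k = 0 ∨ (k = 1 ∧ 5000000000 ≤ t) ∨ (k = 8 ∧ t = t0 ∧ n = n0) := by
  rcases h with h | ⟨h, ⟨p, f, m, hm, r, -⟩ | ⟨m, hm, r, -⟩⟩ | ⟨h, r, e⟩
  · exact Or.inl h
  · refine Or.inr (Or.inl ⟨h, c_low (le_trans r.hp.two_le (Nat.le_self_pow (by have := r.hf; omega) p))
      (by omega : 4 ≤ m - 1) (Nat.le_of_dvd two_pos (Nat.gcd_dvd_left 2 (p ^ f - 1))) r.eq⟩)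
  · refine Or.inr (Or.inl ⟨h, l_low hm (d := Nat.gcd m 2) (Nat.le_of_dvd two_pos (Nat.gcd_dvd_right m 2)) ?_⟩)
    have := r.eq
    simpa only [Art.dd, Art.NN, Art.num, pow_one] using this
  · have h1 : t = t0 := by
      have := r.eq
      simp only [Art.dd, Art.NN, Art.num, pow_one] at this
      rw [c11] at this
      simpa using this
    refine Or.inr (Or.inr ⟨h, h1, ?_⟩)
    rw [h1] at e
    unfold t0 at e
    unfold n0
    omega

theorem pF {t n k : ℕ} (h : Ex.tabF4.At t n k) : k = 0 ∨ (k = 1 ∧ 211341312 ≤ t ∧ 69888 ≤ n ∧ t < n * n) := by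
  rcases h with h | ⟨a, ha, rfl, rfl, h⟩
  · exact Or.inl h
  · have h2 : 2 ≤ 2 ^ a := Nat.le_self_pow (by omega) 2
    exact Or.inr ⟨h, (f4_low h2).1, (f4_low h2).2, f4_sq h2⟩

theorem pF0 {n k : ℕ} (h : Ex.tabF4.At t0 n k) : k = 0 := by
  rcases h with h | ⟨a, ha, h, -⟩
  · exact h
  · rw [← pow_mul 2 a 12] at h
    have := val_t0 (f4_odd ha) h
    omega

/-- **The sum of the twelve tables is at most nine.** -/
theorem sum_le {t n a l u s o p p' m f g x y : ℕ} (hA : Alt.RA.At t n a) (hL : L.tabL.At t n l) (hU : RU.At t n u)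
    (hS : Sy.RS.At t n s) (hO : Oo.RO.At t n o) (h8 : O8.R8.At t n p) (h5 : Op.tabP5.At t n p') (hM : Om.tabM.At t n m)
    (hF : Ex.tabF4.At t n f) (hG : Ex78.RG.At t n g) (hX : Mat.rMat.At t n x) (hY : RHS.At t n y) :
    a + l + u + s + o + (p + p') + m + (f + g) + (x + y) ≤ 9 := by
  have kU : u = 0 ∨ (u = 4 ∧ (t = 168 ∨ (t = 20160 ∧ n = 280) ∨ t = 13685760)) := by
    rcases hU with h | h
    · exact Or.inl h
    · unfold RU at h
      omega
  have kM : m = 0 ∨ (m = 2 ∧ n = 495 ∧ (t = 239500800 ∨ t = 95040)) := by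
    rcases hM with h | h
    · exact Or.inl h
    · unfold Om.tabM at h
      omega
  have kG : g = 0 ∨ (g = 4 ∧ (t = 604800 ∨ t = 62400)) := by
    rcases hG with h | h
    · exact Or.inl h
    · unfold Ex78.RG at h
      omega
  have kX : x = 0 ∨ (x ≤ 2 ∧ (t = 660 ∨ t = 7920 ∨ t = 6072 ∨ t = 10200960)) := by
    rcases hX with h | h
    · exact Or.inl h
    · unfold Mat.rMat at h
      omega
  have kY : y = 0 ∨ (y = 2 ∧ t = 443520) := by
    rcases hY with h | h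
    · exact Or.inl h
    · unfold RHS at h
      omega
  have kL := pL hL
  have kO := pO hO
  rcases p5 h5 with k5 | k5 | ⟨k5, rfl, rfl⟩
  · have kA := pA hA
    have kS := pS hS
    have k8 := p8 h8
    have kF := pF hF
    generalize n * n = z at *
    clear hA hL hU hS hO h8 h5 hM hF hG hX hY
    rcases kU with kU | kU <;> rcases kM with kM | kM <;> rcases kG with kG | kG <;> rcases kX with kX | kX <;>
      rcases kY with kY | kY <;> omega
  · have kA := pA hA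
    have kS := pS hS
    have k8 := p8 h8
    have kF := pF hF
    generalize n * n = z at *
    clear hA hL hU hS hO h8 h5 hM hF hG hX hY
    have : u = 0 := by omega
    have : m = 0 := by omega
    have : g = 0 := by omega
    have : x = 0 := by omega
    have : y = 0 := by omega
    have : a ≤ 2 := by omega
    have : s ≤ 2 := by omega
    have : p ≤ 2 := by omega
    have : o + f ≤ 1 := by omega
    omega
  · have kA := pA0 hA
    have kS := pS0 hS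
    have k8 := p80 h8
    have kF := pF0 hF
    have h0 : t0 < n0 * n0 := by unfold t0 n0; norm_num
    have h1 : 5859000000 < t0 := by unfold t0; norm_num
    generalize n0 * n0 = z at *
    generalize t0 = t at *
    generalize n0 = n at *
    have : u = 0 := by omega
    have : m = 0 := by omega
    have : g = 0 := by omega
    have : x = 0 := by omega
    have : y = 0 := by omega
    have : o = 0 := by omega
    omega

/-- the sum of two tables -/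
def add (R₁ R₂ : Tab) : Tab := fun t n k => ∃ k₁ k₂, R₁.At t n k₁ ∧ R₂.At t n k₂ ∧ k = k₁ + k₂

theorem add_at {R₁ R₂ : Tab} {t n k : ℕ} (h : (add R₁ R₂).At t n k) :
    ∃ k₁ k₂, R₁.At t n k₁ ∧ R₂.At t n k₂ ∧ k = k₁ + k₂ :=
  h.elim (fun h => ⟨0, 0, Or.inl rfl, Or.inl rfl, h⟩) id

theorem bnd_add {P P₁ P₂ : Fam} {R₁ R₂ : Tab} (h₁ : Bnd P₁ R₁) (h₂ : Bnd P₂ R₂)
    (hP : ∀ (S : Type) [Group S], P S → P₁ S ∨ P₂ S) : Bnd P (add R₁ R₂) :=
  Bnd.split h₁ h₂ hP fun _ _ k₁ k₂ a b _ => ⟨k₁ + k₂, le_rfl, k₁, k₂, a, b, rfl⟩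

/-- **`Arith` for the tables as landed.** -/
theorem arith : Arith Alt.RA L.tabL RU Sy.RS Oo.RO (add O8.R8 Op.tabP5) Om.tabM (add Ex.tabF4 Ex78.RG)
    (add Mat.rMat RHS) := fun t n a l u s o p m e x hA hL hU hS hO hP hM hE hX => by
  obtain ⟨p, p', h8, h5, rfl⟩ := add_at hP
  obtain ⟨f, g, hF, hG, rfl⟩ := add_at hE
  obtain ⟨x, y, hX', hY, rfl⟩ := add_at hX
  exact sum_le hA hL hU hS hO h8 h5 hM hF hG hX' hY

theorem bnd_fP (h8 : Bnd O8.f8 O8.R8) (h5 : Bnd Op.fP5 Op.tabP5) : Bnd fP (add O8.R8 Op.tabP5) :=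
  bnd_add h8 h5 fun S _ ⟨F, i, j, m, hm, e⟩ => by
    rcases hm.eq_or_lt with rfl | h
    · exact Or.inl ⟨F, i, j, e⟩
    · exact Or.inr ⟨F, i, j, m, h, e⟩

/-- the exceptional families without a row -/
def fE0 : Fam := fun S _ => Lie.IsoChevE6 S ∨ Lie.IsoE7 S ∨ Lie.IsoE8 S ∨ Lie.Iso2E6 S ∨ Lie.Iso3D4 S ∨ Lie.IsoSuzuki S ∨
  Lie.IsoRee S ∨ Lie.Iso2F4 S

theorem bnd_fE (hF : Bnd Ex.fF4 Ex.tabF4) (hG : Bnd Ex78.fG2 Ex78.RG) (h0 : Nil fE0) :
    Bnd fE (add Ex.tabF4 Ex78.RG) := by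
  refine Bnd.or_nil (P₁ := fun S _ => Ex.fF4 S ∨ Ex78.fG2 S) (bnd_add hF hG fun _ _ h => h) h0 fun S _ h => ?_
  unfold fE IsExceptionalLieType at h
  unfold Ex.fF4 Ex78.fG2 fE0
  tauto

theorem bnd_fX (h : Bnd fX fun t n k => Mat.rMat t n k ∨ RHS t n k) : Bnd fX (add Mat.rMat RHS) :=
  h.mono fun _ _ k hk => ⟨k, le_rfl, hk.elim (fun a => ⟨k, 0, Or.inr a, Or.inl rfl, rfl⟩)
    fun a => ⟨0, k, Or.inl rfl, Or.inr a, (zero_add k).symm⟩⟩

/-- **The almost simple box from the bounds of the subfamilies.** -/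
theorem boxAS_of_tabs (cfsg : ∀ (S : Type) [Group S] [Finite S] [IsSimpleGroup S], IsKnownSimple' S)
    (hA : Bnd fA Alt.RA) (hL : Bnd fL L.tabL) (hU : Bnd fU RU) (hS : Bnd fS Sy.RS) (hO : Bnd fO Oo.RO)
    (h8 : Bnd O8.f8 O8.R8) (h5 : Bnd Op.fP5 Op.tabP5) (hM : Bnd fM Om.tabM) (hF : Bnd Ex.fF4 Ex.tabF4)
    (hG : Bnd Ex78.fG2 Ex78.RG) (h0 : Nil fE0) (hX : Bnd fX fun t n k => Mat.rMat t n k ∨ RHS t n k) : BoxAS :=
  boxAS_of cfsg hA hL hU hS hO (bnd_fP h8 h5) hM (bnd_fE hF hG h0) (bnd_fX hX) arith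

end Cfsg.Agent.SM.Ar
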